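import Mathlib

/-!
# Generators of a group of U₄(3) type

`z = i * i` is the central involution of `⟨i, a, s, m⟩`; `⟨a, s * a * s, l, m * l * m⁻¹⟩` is the
self-centralising elementary abelian subgroup of order 81.
-/

set_option autoImplicit false

namespace Cfsg.Lib.UFourThreeRecog

/-- Generators with the relations found in a group of U₄(3) type. -/
structure Frame (G : Type*) [Group G] where
  /-- An element of order four of the first quaternion group. -/
  i : G
  /-- An element of order three of the first component. -/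
  a : G
  /-- The involution exchanging the components. -/
  s : G
  /-- An element of order four inverting `a` and `i`. -/
  m : G
  /-- An element of order three inverted by `i * i`. -/
  l : G
  i_four : i ^ 4 = 1
  a_three : a ^ 3 = 1
  s_sq : s * s = 1
  l_three : l ^ 3 = 1
  j_sq : (a * i * a⁻¹) * (a * i * a⁻¹) = i * i
  a_j : a * (a * i * a⁻¹) * a⁻¹ = i * (a * i * a⁻¹)
  j_i : (a * i * a⁻¹) * i * (a * i * a⁻¹)⁻¹ = i⁻¹
  comm_a_a₂ : Commute a (s * a * s)
  comm_a_i₂ : Commute a (s * i * s)
  comm_i_i₂ : Commute i (s * i * s)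
  i₂_sq : (s * i * s) * (s * i * s) = i * i
  m_sq : m * m = i * i
  s_m : s * m * s = m⁻¹
  m_a : m * a * m⁻¹ = a⁻¹
  m_i : m * i * m⁻¹ = i⁻¹
  comm_l_a : Commute l a
  comm_l_a₂ : Commute l (s * a * s)
  z_l : (i * i) * l * (i * i)⁻¹ = l⁻¹
  comm_s_l : Commute s l
  comm_l_l₂ : Commute l (m * l * m⁻¹)
  l_x : l * (s * i * s * l * (s * i * s)⁻¹) * l⁻¹ * (s * i * s * l * (s * i * s)⁻¹)⁻¹ = a⁻¹
  comm_l_x₂ : Commute l (s * i * s * (m * l * m⁻¹) * (s * i * s)⁻¹)
  a₂_x : (s * a * s) * (s * i * s * l * (s * i * s)⁻¹) * (s * a * s)⁻¹ =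
    l * (s * i * s * l * (s * i * s)⁻¹) * a⁻¹

namespace Frame

variable {G : Type*} [Group G] (F : Frame G)

/-- The central involution. -/
def z : G := F.i * F.i

/-- The subgroup of order 81. -/
def A : Subgroup G := Subgroup.closure {F.a, F.s * F.a * F.s, F.l, F.m * F.l * F.m⁻¹}

/-- The element of the centraliser of `a` inducing a transvection on `A`. -/
def x : G := F.s * F.i * F.s * F.l * (F.s * F.i * F.s)⁻¹

/-- What is known about the generators besides the relations. -/
structure Facts : Prop where
  order_z : orderOf F.z = 2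
  card_A : Nat.card F.A = 81
  centralizer_A : Subgroup.centralizer (F.A : Set G) = F.A
  card_centralizer : Nat.card (Subgroup.centralizer ({F.z} : Set G)) = 2 ^ 7 * 3 ^ 2
  centralizer_z : Subgroup.centralizer ({F.z} : Set G) = Subgroup.closure {F.i, F.a, F.s, F.m}

end Frame

end Cfsg.Lib.UFourThreeRecog
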