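import Cfsg.Agent.Lib.SUSixU43.QSide
import Cfsg.Agent.Lib.MinusSix.Main

/-!
# The model of `PSU 4 K 3` on 112 points, over any field with nine elements
-/

set_option autoImplicit false

namespace Cfsg.Lib.UFourThreeRecog

open Cfsg Equiv MulAction Cfsg.Lib.SUSixU43

/-- `PSU 4 K 3` is the certified group on 112 points. -/
theorem psu_equiv_model (K : Type) [Field K] [Fintype K] (hK : Fintype.card K = 9) :
    Nonempty (PSU 4 K 3 ≃* ↥Q112) := by
  classical
  obtain ⟨e⟩ := psu_equiv_Q112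
  obtain ⟨u⟩ := Cfsg.Lib.MinusSix.psu_congr (n := 4) (q := 3)
    (FiniteField.ringEquivOfCardEq (K := PermAut.MclPsu.R9) (K' := K) (by rw [PermAut.MclPsu.card_r9, hK]))
  exact ⟨u.symm.trans e⟩

/-- To be isomorphic to `PSU 4 K 3` it suffices to be isomorphic to the model. -/
theorem iso_psu_of_model {G : Type*} [Group G] (h : Nonempty (G ≃* ↥Q112)) (K : Type) [Field K] [Fintype K]
    (hK : Fintype.card K = 9) : Nonempty (G ≃* PSU 4 K 3) := by
  obtain ⟨e⟩ := h
  obtain ⟨u⟩ := psu_equiv_model K hK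
  exact ⟨e.trans u.symm⟩

theorem card_model : Nat.card ↥Q112 = 2 ^ 7 * 3 ^ 6 * 5 * 7 := by rw [card_Q112]; norm_num

/-- The model is transitive on its 112 points. -/
theorem model_trans (x : Fin 112) : ∃ g ∈ Q112, g 0 = x :=
  ⟨_, (rT_facts x x.2).1, (rT_facts x x.2).2⟩

/-- The point stabiliser has index 112, order 29160, and normalises an elementary abelian group of order 81. -/
theorem stabilizer_facts :
    Nat.card ↥St = 29160 ∧ E112 ≤ St ∧ Nat.card ↥E112 = 81 ∧ ∀ g ∈ St, ∀ e ∈ E112, g * e * g⁻¹ ∈ E112 :=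
  ⟨card_St, E112_le_St, card_E112, fun _ hg _ he => St_normal hg he⟩

end Cfsg.Lib.UFourThreeRecog
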