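import Cfsg.Agent.Lib.UFourThreeRecog.Action
import Cfsg.Agent.Lib.UFourThreeRecog.Model
import Cfsg.Agent.Lib.Linear.PSUFourSeven
import Cfsg.Agent.Lib.StrongEmb.Core
import Cfsg.Agent.S0223

/-!
# A finite group with a frame is the model

The group generated by the frame has one class of involutions and contains the centraliser of the
central involution, so it would be strongly embedded if it were proper; a two-point stabiliser would
then be a subgroup of odd order divisible by 2835, which the model does not have.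
-/

set_option autoImplicit false
set_option maxRecDepth 100000
set_option linter.unusedSectionVars false

namespace Cfsg.Lib.UFourThreeRecog

open Equiv Cfsg.Lib.PermAut Cfsg.Lib.SUSixU43 Cfsg.Lib.StrongEmb

attribute [local irreducible] actT evL nodeOf

namespace Frame

variable {G : Type*} [Group G] [Finite G] {F : Frame G} (h : F.Facts)

/-- An element of a Sylow two-subgroup of the group generated by a frame. -/
def sylVal (F : Frame G) (k : ℕ) : G := wordG F (sylElts.getD k [])

/-- A Sylow two-subgroup of the group generated by a frame. -/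
def sylSub (F : Frame G) : Subgroup G :=
  Subgroup.closure {g | ∃ n < 6, g = wordG F (sylGens.getD n [])}

theorem sylElts_lt (k : ℕ) : ∀ q ∈ sylElts.getD k [], q < 5 := by
  rcases Nat.lt_or_ge k sylElts.length with hk | hk
  · rw [List.getD_eq_getElem _ _ hk]; exact syl_letters.1 _ (List.getElem_mem hk)
  · rw [List.getD_eq_default _ _ hk]; simp

theorem sylGens_lt (n : ℕ) : ∀ q ∈ sylGens.getD n [], q < 5 := by
  rcases Nat.lt_or_ge n sylGens.length with hk | hk
  · rw [List.getD_eq_getElem _ _ hk]; exact syl_letters.2.1 _ (List.getElem_mem hk)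
  · rw [List.getD_eq_default _ _ hk]; simp

theorem sylConj_lt (n : ℕ) : ∀ q ∈ sylConj.getD n [], q < 5 := by
  rcases Nat.lt_or_ge n sylConj.length with hk | hk
  · rw [List.getD_eq_getElem _ _ hk]; exact syl_letters.2.2 _ (List.getElem_mem hk)
  · rw [List.getD_eq_default _ _ hk]; simp

theorem lt_seven {w : List ℕ} (hw : ∀ q ∈ w, q < 5) : ∀ q ∈ w, q < 7 := fun q hq =>
  Nat.lt_trans (hw q hq) (by norm_num)

theorem append_lt {u v : List ℕ} (hu : ∀ q ∈ u, q < 5) (hv : ∀ q ∈ v, q < 5) : ∀ q ∈ u ++ v, q < 5 :=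
  fun q hq => (List.mem_append.1 hq).elim (hu q) (hv q)

theorem sylVal_zero : sylVal F 0 = 1 := by rw [sylVal, syl_len.2.2]; simp [wordG]

theorem z_eq_word : F.z = wordG F [0, 0] := by simp [wordG, gfun, z]

theorem z_mem : F.z ∈ G0 F := by
  rw [z_eq_word]; exact wordG_mem F (by simp)

include h

/-- Words with equal values have equal permutations. -/
theorem evL_eq {u v : List ℕ} (hu : ∀ q ∈ u, q < 5) (hv : ∀ q ∈ v, q < 5)
    (e : wordG F u = wordG F v) {x : ℕ} (hx : x < 112) : evL u x = evL v x := by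
  have hs : actW u * (actW v)⁻¹ = 1 := graph_inj_fst h (mul_mem (word_mem h hu) (inv_mem (word_mem h hv)))
    (show wordG F u * (wordG F v)⁻¹ = 1 by rw [e, mul_inv_cancel])
  have he := congrArg (fun σ : Perm (Fin 112) => (σ ⟨x, hx⟩ : ℕ)) (mul_inv_eq_one.1 hs)
  simpa [actW_val (lt_seven hu), actW_val (lt_seven hv)] using he

theorem sylVal_inj {k k' : ℕ} (hk : k < 128) (hk' : k' < 128) (e : sylVal F k = sylVal F k') : k = k' := by
  have hl : (sylElts.map fun w => keyPts.map (evL w)).length = 128 := by rw [List.length_map, syl_len.1]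
  refine (syl_keys.getElem_inj_iff (hi := hl.symm ▸ hk) (hj := hl.symm ▸ hk')).1 ?_
  have hk1 : k < sylElts.length := syl_len.1.symm ▸ hk
  have hk2 : k' < sylElts.length := syl_len.1.symm ▸ hk'
  simp only [List.getElem_map]
  rw [← List.getD_eq_getElem _ [] hk1, ← List.getD_eq_getElem _ [] hk2]
  refine List.map_congr_left fun p hp => evL_eq h (sylElts_lt k) (sylElts_lt k') e ?_
  simp only [keyPts, List.mem_cons, List.not_mem_nil, or_false] at hp
  omega

theorem sylVal_next {k n : ℕ} (hk : k < 128) (hn : n < 6) :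
    sylVal F k * wordG F (sylGens.getD n []) = sylVal F ((sylNext.getD k []).getD n 0) := by
  rw [sylVal, sylVal, ← wordG_append]
  exact word_eq h (append_lt (sylElts_lt k) (sylGens_lt n)) (sylElts_lt _) (syl_next k hk n hn).2

theorem sylVal_mem {k : ℕ} (hk : k < 128) : sylVal F k ∈ sylSub F := by
  induction k using Nat.strong_induction_on with
  | _ k ih =>
    rcases syl_tree k hk with rfl | hp
    · rw [sylVal_zero]; exact one_mem _
    · obtain ⟨k', hk', hn'⟩ := List.any_eq_true.1 hp
      obtain ⟨n, hn, he⟩ := List.any_eq_true.1 hn'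
      rw [List.mem_range] at hk' hn
      have hk'' : k' < 128 := hk'.trans hk
      have := sylVal_next h hk'' hn
      rw [Nat.eq_of_beq_eq_true he] at this
      rw [← this]
      exact mul_mem (ih k' hk' hk'') (Subgroup.subset_closure ⟨n, hn, rfl⟩)

theorem exists_sylVal {g : G} (hg : g ∈ sylSub F) : ∃ k < 128, g = sylVal F k := by
  rw [sylSub, ← Subgroup.mem_toSubmonoid, Subgroup.closure_toSubmonoid_of_finite] at hg
  have key : ∀ k < 128, ∃ k' < 128, sylVal F k * g = sylVal F k' := by
    induction hg using Submonoid.closure_induction with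
    | one => exact fun k hk => ⟨k, hk, mul_one _⟩
    | mem y hy =>
      obtain ⟨n, hn, rfl⟩ := hy
      exact fun k hk => ⟨_, (syl_next k hk n hn).1, sylVal_next h hk hn⟩
    | mul y y' _ _ hy hy' =>
      intro k hk
      obtain ⟨k', hk', e'⟩ := hy k hk
      obtain ⟨k'', hk'', e''⟩ := hy' k' hk'
      exact ⟨k'', hk'', by rw [← mul_assoc, e', e'']⟩
  obtain ⟨k, hk, e⟩ := key 0 (by norm_num)
  rw [sylVal_zero, one_mul] at e
  exact ⟨k, hk, e⟩

theorem card_sylSub : Nat.card ↥(sylSub F) = 128 := by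
  have hb : Function.Bijective fun k : Fin 128 => (⟨sylVal F k, sylVal_mem h k.2⟩ : ↥(sylSub F)) := by
    refine ⟨fun k k' e => Fin.ext (sylVal_inj h k.2 k'.2 (congrArg Subtype.val e)), fun g => ?_⟩
    obtain ⟨k, hk, e⟩ := exists_sylVal h g.2
    exact ⟨⟨k, hk⟩, Subtype.ext e.symm⟩
  rw [← Nat.card_eq_of_bijective _ hb, Nat.card_fin]

theorem sylSub_le : sylSub F ≤ G0 F := by
  rw [sylSub, Subgroup.closure_le]
  rintro g ⟨n, -, rfl⟩
  exact wordG_mem F (lt_seven (sylGens_lt n))

/-- Every involution of the group generated by a frame is conjugate in it to the central one. -/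
theorem conj_in_G0 {t : G} (ht : t ∈ G0 F) (ht2 : orderOf t = 2) : ∃ g ∈ G0 F, g * F.z * g⁻¹ = t := by
  haveI : Fact (Nat.Prime 2) := ⟨Nat.prime_two⟩
  have hcard : Nat.card ↥((sylSub F).subgroupOf (G0 F)) = 2 ^ (Nat.card ↥(G0 F)).factorization 2 := by
    rw [Nat.card_congr (Subgroup.subgroupOfEquivOfLe (sylSub_le h)).toEquiv, card_sylSub h, card_G0 h,
      show (3265920 : ℕ) = 2 ^ 7 * 25515 from rfl, Nat.factorization_mul (by norm_num) (by norm_num),
      Finsupp.add_apply, Nat.Prime.factorization_pow Nat.prime_two, Finsupp.single_eq_same,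
      Nat.factorization_eq_zero_of_not_dvd (show ¬ 2 ∣ 25515 by decide)]
    rfl
  let S : Sylow 2 ↥(G0 F) := Sylow.ofCard _ hcard
  let t' : ↥(G0 F) := ⟨t, ht⟩
  have ht' : orderOf t' = 2 := by rw [← Subgroup.orderOf_coe]; exact ht2
  obtain ⟨P, hP⟩ := (IsPGroup.of_card (n := 1) (by rw [Nat.card_zpowers, ht', pow_one]) :
    IsPGroup 2 (Subgroup.zpowers t')).exists_le_sylow
  obtain ⟨c, hc⟩ := MulAction.exists_smul_eq (↥(G0 F)) P S
  have hmem : (MulAut.conj c) t' ∈ ((sylSub F).subgroupOf (G0 F)) := by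
    have e : ((c • P : Sylow 2 ↥(G0 F)) : Subgroup ↥(G0 F)) = (sylSub F).subgroupOf (G0 F) := by
      rw [hc]; rfl
    rw [← e, Sylow.coe_subgroup_smul]
    exact Subgroup.smul_mem_pointwise_smul _ _ _ (hP (Subgroup.mem_zpowers t'))
  rw [Subgroup.mem_subgroupOf] at hmem
  simp only [MulAut.conj_apply, Subgroup.coe_mul, InvMemClass.coe_inv] at hmem
  obtain ⟨k, hk, e⟩ := exists_sylVal h hmem
  have hu := sylElts_lt k
  have ho : orderOf (sylVal F k) = 2 := by rw [← e, Invol.orderOf_conj_eq, ht2]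
  rcases syl_class k hk with rfl | hsq | hcl
  · rw [sylVal_zero, orderOf_one] at ho; norm_num at ho
  · obtain ⟨x, hx, hx'⟩ := List.any_eq_true.1 hsq
    rw [List.mem_range] at hx
    have e2 : wordG F (sylElts.getD k [] ++ sylElts.getD k []) = wordG F [] := by
      rw [wordG_append]
      have := pow_orderOf_eq_one (sylVal F k)
      rw [ho, pow_two] at this
      simpa [wordG, sylVal] using this
    have h0 := evL_eq h (append_lt hu hu) (by simp) e2 hx
    rw [h0, show evL [] x = x by simp [evL, ev]] at hx'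
    simp at hx'
  · have e2 := word_eq h (append_lt (sylConj_lt k) (by simp)) (append_lt hu (sylConj_lt k)) hcl
    rw [wordG_append, wordG_append, ← z_eq_word] at e2
    have hcG : wordG F (sylConj.getD k []) ∈ G0 F := wordG_mem F (lt_seven (sylConj_lt k))
    refine ⟨(c : G)⁻¹ * wordG F (sylConj.getD k []), mul_mem (inv_mem c.2) hcG, ?_⟩
    calc (c : G)⁻¹ * wordG F (sylConj.getD k []) * F.z * ((c : G)⁻¹ * wordG F (sylConj.getD k []))⁻¹
        = (c : G)⁻¹ * (wordG F (sylConj.getD k []) * F.z) * (wordG F (sylConj.getD k []))⁻¹ * c := by group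
      _ = (c : G)⁻¹ * sylVal F k * c := by rw [e2, sylVal]; group
      _ = t := by rw [← e]; simp only [t']; group

theorem centralizer_le : Subgroup.centralizer ({F.z} : Set G) ≤ G0 F := by
  rw [h.centralizer_z, Subgroup.closure_le]
  intro g hg
  simp only [Set.mem_insert_iff, Set.mem_singleton_iff] at hg
  rcases hg with rfl | rfl | rfl | rfl <;> exact Subgroup.subset_closure (by simp)

theorem stronglyEmbedded (hne : G0 F ≠ ⊤) : IsStronglyEmbedded (G0 F) := by
  have heven : Even (Nat.card ↥(G0 F)) := by rw [card_G0 h]; decide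
  refine (Cfsg.Agent.S0223.result (G0 F) hne heven).2 ⟨fun t ht ht2 c hc => ?_, fun t ht s hs ht2 hs2 _ => ?_⟩
  · obtain ⟨g, hg, rfl⟩ := conj_in_G0 h ht ht2
    have : g⁻¹ * c * g ∈ Subgroup.centralizer ({F.z} : Set G) := by
      rw [Subgroup.mem_centralizer_singleton_iff] at hc ⊢
      calc g⁻¹ * c * g * F.z = g⁻¹ * (c * (g * F.z * g⁻¹)) * g := by group
        _ = g⁻¹ * (g * F.z * g⁻¹ * c) * g := by rw [hc]
        _ = F.z * (g⁻¹ * c * g) := by group
    simpa [mul_assoc] using mul_mem (mul_mem hg (centralizer_le h this)) (inv_mem hg)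
  · obtain ⟨g, hg, rfl⟩ := conj_in_G0 h ht ht2
    obtain ⟨g', hg', rfl⟩ := conj_in_G0 h hs hs2
    exact ⟨g' * g⁻¹, mul_mem hg' (inv_mem hg), by group⟩

theorem kInv_G0 (hse : IsStronglyEmbedded (G0 F)) : kInv (G0 F) = 2835 := by
  have h1 := Subgroup.card_mul_index ((Subgroup.centralizer ({F.z} : Set G)).subgroupOf (G0 F))
  rw [Nat.card_congr (Subgroup.subgroupOfEquivOfLe (centralizer_le h)).toEquiv, h.card_centralizer,
    card_G0 h, ← kInv_eq_index hse z_mem h.order_z] at h1
  omega

/-- The model has no subgroup of odd order divisible by 2835. -/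
theorem no_odd_subgroup {D : Subgroup G} (hD : D ≤ G0 F) (h1 : 2835 ∣ Nat.card D)
    (h2 : Odd (Nat.card D)) : False := by
  haveI : Fact (Nat.Prime 7) := ⟨by norm_num⟩
  have hd : Nat.card D ∣ 25515 := by
    have h3 : Nat.card D ∣ 128 * 25515 := by
      rw [show 128 * 25515 = 3265920 from rfl, ← card_G0 h]; exact Subgroup.card_dvd_of_le hD
    exact (Nat.Coprime.pow_right 7 (Nat.coprime_two_right.2 h2)).dvd_of_dvd_mul_left h3
  obtain ⟨k, hk⟩ := h1
  have hk9 : k = 1 ∨ k = 3 ∨ k = 9 := by
    rw [hk, show 25515 = 2835 * 9 from rfl] at hd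
    have hk' := Nat.dvd_of_mul_dvd_mul_left (by norm_num : 0 < 2835) hd
    have := Nat.le_of_dvd (by norm_num) hk'
    interval_cases k <;> omega
  obtain ⟨e₁⟩ := G0_equiv h
  obtain ⟨e₂⟩ := psu_equiv_Q112
  let f : ↥D →* PSU 4 MclPsu.R9 3 := (e₁.trans e₂.symm).toMonoidHom.comp (Subgroup.inclusion hD)
  have hf : Function.Injective f := (e₁.trans e₂.symm).injective.comp (Subgroup.inclusion_injective hD)
  let P : Sylow 7 ↥D := default
  have hP : Nat.card ↥(P : Subgroup ↥D) = 7 := by
    rw [P.card_eq_multiplicity]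
    have h7 : (Nat.card ↥D).factorization 7 = 1 := by
      have hk7 : ¬ 7 ∣ 405 * k := by omega
      rw [hk, show 2835 * k = 7 ^ 1 * (405 * k) by ring, Nat.factorization_mul (by norm_num) (by omega),
        Finsupp.add_apply, Nat.Prime.factorization_pow (by norm_num), Finsupp.single_eq_same,
        Nat.factorization_eq_zero_of_not_dvd hk7]
    rw [h7, pow_one]
  have hX := (Linear.PSUFourSeven.normalizer_seven MclPsu.card_r9 ((P : Subgroup ↥D).map f)
    (by rw [← Nat.card_congr ((P : Subgroup ↥D).equivMapOfInjective f hf).toEquiv, hP])).1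
  have hN : Nat.card ↥(Subgroup.normalizer ((P : Subgroup ↥D) : Set ↥D)) ∣ 21 := by
    rw [← hX, Nat.card_congr ((Subgroup.normalizer ((P : Subgroup ↥D) : Set ↥D)).equivMapOfInjective f hf).toEquiv]
    exact Subgroup.card_dvd_of_le (Subgroup.le_normalizer_map f)
  have h7N : 7 ∣ Nat.card ↥(Subgroup.normalizer ((P : Subgroup ↥D) : Set ↥D)) := by
    conv_lhs => rw [← hP]
    exact Subgroup.card_dvd_of_le Subgroup.le_normalizer
  have hmul := Subgroup.card_mul_index (Subgroup.normalizer ((P : Subgroup ↥D) : Set ↥D))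
  have hidx : Nat.card (Sylow 7 ↥D) = (Subgroup.normalizer ((P : Subgroup ↥D) : Set ↥D)).index :=
    P.card_eq_index_normalizer
  rw [hk] at hmul
  rw [← hidx] at hmul
  have hmod : Nat.card (Sylow 7 ↥D) % 7 = 1 := card_sylow_modEq_one 7 ↥D
  have hle := Nat.le_of_dvd (by norm_num) hN
  obtain ⟨j, hj⟩ := h7N
  rw [hj] at hN hmul hle
  have hj3 : j ∣ 3 := Nat.dvd_of_mul_dvd_mul_left (by norm_num : 0 < 7) hN
  rcases (Nat.dvd_prime Nat.prime_three).1 hj3 with rfl | rfl <;> rcases hk9 with rfl | rfl | rfl <;> omega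

/-- A finite group with a frame is generated by it. -/
theorem G0_eq_top : G0 F = ⊤ := by
  by_contra hne
  have hse := stronglyEmbedded h hne
  obtain ⟨b, hb⟩ := exists_ne hse ((1 : G) : G ⧸ G0 F)
  obtain ⟨w, hw, hwb⟩ := exists_swapper hse (Ne.symm hb)
  have hodd := odd_two hse (Ne.symm hb)
  refine no_odd_subgroup h (inf_le_left.trans (MulAction.stabilizer_quotient (G0 F)).le) ?_ hodd
  rw [← kInv_G0 h hse, ← ncard_invSet_two hse (Ne.symm hb) hw hwb,
    ncard_invSet hw (swapper_norm hw hwb) hodd]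
  exact Subgroup.index_dvd_card _

/-- A finite group with a frame is the model. -/
theorem iso_of_frame : Nonempty (G ≃* ↥Q112) := by
  obtain ⟨e⟩ := G0_equiv h
  exact ⟨(Subgroup.topEquiv.symm.trans (MulEquiv.subgroupCongr (G0_eq_top h).symm)).trans e⟩

/-- A finite group with a frame has one class of involutions. -/
theorem conj_involutions (x y : G) (hx : orderOf x = 2) (hy : orderOf y = 2) : IsConj x y := by
  obtain ⟨g, -, rfl⟩ := conj_in_G0 h (by rw [G0_eq_top h]; trivial) hx
  obtain ⟨g', -, rfl⟩ := conj_in_G0 h (by rw [G0_eq_top h]; trivial) hy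
  exact isConj_iff.2 ⟨g' * g⁻¹, by group⟩

end Frame

end Cfsg.Lib.UFourThreeRecog
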