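import Cfsg.Agent.Lib.UFourThreeRecog.Act

/-!
# The subgroup of order 81 of a frame and the kernel of the action
-/

set_option autoImplicit false

namespace Cfsg.Lib.UFourThreeRecog

open Equiv MulAction

namespace Frame

variable {G : Type*} [Group G] (F : Frame G)

/-- The second basis element. -/
def a₂ : G := F.s * F.a * F.s

/-- The fourth basis element. -/
def l₂ : G := F.m * F.l * F.m⁻¹

theorem s_inv : F.s⁻¹ = F.s := inv_eq_of_mul_eq_one_right F.s_sq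

theorem z_sq : F.z * F.z = 1 := by
  rw [Frame.z, ← F.i_four]
  simp [pow_succ, mul_assoc]

theorem z_eq : F.z = F.m * F.m := F.m_sq.symm

theorem m_four : F.m * F.m * (F.m * F.m) = 1 := by rw [F.m_sq]; exact F.z_sq

theorem m_inv : F.m⁻¹ = F.m * F.m * F.m := inv_eq_of_mul_eq_one_right (by
  rw [← mul_assoc, ← mul_assoc]
  simpa [mul_assoc] using F.m_four)

theorem a_a₂ : Commute F.a F.a₂ := F.comm_a_a₂

theorem a_l : Commute F.a F.l := F.comm_l_a.symm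

theorem a₂_l : Commute F.a₂ F.l := F.comm_l_a₂.symm

theorem l_l₂ : Commute F.l F.l₂ := F.comm_l_l₂

theorem a_l₂ : Commute F.a F.l₂ := by
  have h := F.comm_l_a.map (MulAut.conj F.m).toMonoidHom
  simp only [MulEquiv.coe_toMonoidHom, MulAut.conj_apply, F.m_a] at h
  exact Commute.inv_left_iff.1 h.symm

theorem m_a₂ : F.m * F.a₂ * F.m⁻¹ = F.a₂⁻¹ := by
  have h1 : F.m * F.s = F.s * F.m⁻¹ := by
    rw [← F.s_m, ← mul_assoc, ← mul_assoc, F.s_sq, one_mul]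
  have h2 : F.m⁻¹ * F.a * F.m = F.a⁻¹ := by
    calc F.m⁻¹ * F.a * F.m = F.m⁻¹ * (F.m * F.a * F.m⁻¹)⁻¹ * F.m := by rw [F.m_a, inv_inv]
      _ = F.a⁻¹ := by group
  calc F.m * F.a₂ * F.m⁻¹ = (F.m * F.s) * F.a * (F.m * F.s⁻¹)⁻¹ := by rw [a₂]; group
    _ = F.s * (F.m⁻¹ * F.a * F.m) * F.s⁻¹ := by rw [F.s_inv, h1, mul_inv_rev, F.s_inv]; group
    _ = F.a₂⁻¹ := by rw [h2, a₂, mul_inv_rev, mul_inv_rev, F.s_inv]; group

theorem a₂_l₂ : Commute F.a₂ F.l₂ := by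
  have h := F.comm_l_a₂.map (MulAut.conj F.m).toMonoidHom
  simp only [MulEquiv.coe_toMonoidHom, MulAut.conj_apply] at h
  rw [show F.s * F.a * F.s = F.a₂ from rfl, F.m_a₂] at h
  exact Commute.inv_left_iff.1 h.symm

theorem z_l₂ : F.z * F.l₂ * F.z⁻¹ = F.l₂⁻¹ := by
  have h : F.z * F.l * F.z⁻¹ = F.l⁻¹ := F.z_l
  calc F.z * F.l₂ * F.z⁻¹ = F.m * (F.z * F.l * F.z⁻¹) * F.m⁻¹ := by rw [l₂, F.z_eq]; group
    _ = F.l₂⁻¹ := by rw [h, l₂]; group

theorem m_l₂ : F.m * F.l₂ * F.m⁻¹ = F.l⁻¹ := by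
  have h : F.z * F.l * F.z⁻¹ = F.l⁻¹ := F.z_l
  rw [← h, F.z_eq, l₂]; group

theorem s_l₂ : F.s * F.l₂ * F.s⁻¹ = F.l₂⁻¹ := by
  have hz : F.z⁻¹ * F.l₂ * F.z = F.l₂⁻¹ := by
    rw [inv_eq_of_mul_eq_one_right F.z_sq]
    conv_lhs => arg 2; rw [← inv_eq_of_mul_eq_one_right F.z_sq]
    exact F.z_l₂
  calc F.s * F.l₂ * F.s⁻¹ = (F.s * F.m * F.s) * (F.s⁻¹ * F.l * F.s) * (F.s * F.m * F.s)⁻¹ := by rw [l₂]; group
    _ = F.m⁻¹ * F.l * F.m := by
      rw [F.s_m, inv_inv, mul_assoc F.s⁻¹, ← F.comm_s_l.eq, inv_mul_cancel_left]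
    _ = F.z⁻¹ * F.l₂ * F.z := by rw [l₂, F.z_eq]; group
    _ = F.l₂⁻¹ := hz

theorem x_a : Commute F.x F.a := by
  have h : Commute (F.s * F.i * F.s) F.a := F.comm_a_i₂.symm
  exact (h.mul_left F.comm_l_a).mul_left h.inv_left

theorem x_l : F.x * F.l * F.x⁻¹ = F.a * F.l := by
  have h : F.l * F.x * F.l⁻¹ * F.x⁻¹ = F.a⁻¹ := F.l_x
  calc F.x * F.l * F.x⁻¹ = (F.l * F.x * F.l⁻¹ * F.x⁻¹)⁻¹ * F.l := by group
    _ = F.a * F.l := by rw [h, inv_inv]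

theorem x_a₂ : F.x * F.a₂ * F.x⁻¹ = F.a * F.l⁻¹ * F.a₂ := by
  have h : F.a₂ * F.x * F.a₂⁻¹ = F.l * F.x * F.a⁻¹ := F.a₂_x
  calc F.x * F.a₂ * F.x⁻¹ = ((F.a₂⁻¹ * (F.a₂ * F.x * F.a₂⁻¹)) * F.x⁻¹)⁻¹ := by group
    _ = (F.x * F.a * F.x⁻¹) * F.l⁻¹ * F.a₂ := by rw [h]; group
    _ = F.a * F.l⁻¹ * F.a₂ := by rw [F.x_a.eq, mul_inv_cancel_right]

theorem x_l₂ : Commute F.x F.l₂ := by
  set c := F.s * F.i * F.s with hc
  have h0 : Commute F.l (c * F.l₂ * c⁻¹) := F.comm_l_x₂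
  have h := h0.map (MulAut.conj c).toMonoidHom
  simp only [MulEquiv.coe_toMonoidHom, MulAut.conj_apply] at h
  rw [show c * (c * F.l₂ * c⁻¹) * c⁻¹ = c * c * F.l₂ * (c * c)⁻¹ by group, hc, F.i₂_sq,
    show F.i * F.i = F.z from rfl, F.z_l₂] at h
  exact Commute.inv_right_iff.1 h

theorem a₂_three : F.a₂ ^ 3 = 1 := by
  have h : F.a₂ = MulAut.conj F.s F.a := by rw [MulAut.conj_apply, F.s_inv]; rfl
  rw [h, ← map_pow, F.a_three, map_one]

theorem l₂_three : F.l₂ ^ 3 = 1 := by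
  have h : F.l₂ = MulAut.conj F.m F.l := rfl
  rw [h, ← map_pow, F.l_three, map_one]

theorem a_mem : F.a ∈ F.A := Subgroup.subset_closure (by simp)
theorem a₂_mem : F.a₂ ∈ F.A := Subgroup.subset_closure (by simp [a₂])
theorem l_mem : F.l ∈ F.A := Subgroup.subset_closure (by simp)
theorem l₂_mem : F.l₂ ∈ F.A := Subgroup.subset_closure (by simp [l₂])

theorem mem_normalizer_of [Finite G] {g : G} (h1 : g * F.a * g⁻¹ ∈ F.A) (h2 : g * F.a₂ * g⁻¹ ∈ F.A)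
    (h3 : g * F.l * g⁻¹ ∈ F.A) (h4 : g * F.l₂ * g⁻¹ ∈ F.A) : g ∈ Subgroup.normalizer (F.A : Set G) := by
  rw [Subgroup.mem_normalizer_iff_map_conj_eq]
  refine Subgroup.eq_of_le_of_card_ge ?_
    (Subgroup.card_map_of_injective (f := (MulAut.conj g).toMonoidHom) (EquivLike.injective (MulAut.conj g))).ge
  unfold Frame.A
  rw [MonoidHom.map_closure, Subgroup.closure_le]
  rintro _ ⟨y, hy, rfl⟩
  simp only [Set.mem_insert_iff, Set.mem_singleton_iff] at hy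
  rcases hy with rfl | rfl | rfl | rfl
  exacts [h1, h2, h3, h4]

theorem M0_le_normalizer [Finite G] : M0 F ≤ Subgroup.normalizer (F.A : Set G) := by
  refine (Subgroup.closure_le _).2 ?_
  rintro _ ⟨q, hq, rfl⟩
  obtain ⟨h1, h6⟩ := hq
  interval_cases q
  · exact Subgroup.le_normalizer F.a_mem
  · show F.s ∈ _
    refine F.mem_normalizer_of ?_ ?_ ?_ ?_
    · rw [F.s_inv]; exact F.a₂_mem
    · rw [a₂, F.s_inv, show F.s * (F.s * F.a * F.s) * F.s = (F.s * F.s) * F.a * (F.s * F.s) by group, F.s_sq,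
        one_mul, mul_one]
      exact F.a_mem
    · rw [F.comm_s_l.eq, mul_inv_cancel_right]; exact F.l_mem
    · rw [F.s_l₂]; exact inv_mem F.l₂_mem
  · show F.m ∈ _
    refine F.mem_normalizer_of ?_ ?_ F.l₂_mem ?_
    · rw [F.m_a]; exact inv_mem F.a_mem
    · rw [F.m_a₂]; exact inv_mem F.a₂_mem
    · rw [F.m_l₂]; exact inv_mem F.l_mem
  · exact Subgroup.le_normalizer F.l_mem
  · show F.x ∈ _
    refine F.mem_normalizer_of ?_ ?_ ?_ ?_
    · rw [F.x_a.eq, mul_inv_cancel_right]; exact F.a_mem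
    · rw [F.x_a₂]; exact mul_mem (mul_mem F.a_mem (inv_mem F.l_mem)) F.a₂_mem
    · rw [F.x_l]; exact mul_mem F.a_mem F.l_mem
    · rw [F.x_l₂.eq, mul_inv_cancel_right]; exact F.l₂_mem

theorem wordG_flatten (n : ℕ) (w : List ℕ) :
    wordG F (List.replicate n w).flatten = wordG F w ^ n := by
  induction n with
  | zero => simp [wordG]
  | succ n ih => rw [List.replicate_succ, List.flatten_cons, wordG_append, ih, pow_succ']

theorem wordG_pow (v : ℕ) : wordG F (powWord v) =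
    F.a ^ (v / 27 % 3) * F.a₂ ^ (v / 9 % 3) * F.l ^ (v / 3 % 3) * F.l₂ ^ (v % 3) := by
  have h1 : wordG F [1] = F.a := by simp [wordG, gfun]
  have h2 : wordG F [2, 1, 2] = F.a₂ := by simp [wordG, gfun, a₂, mul_assoc]
  have h3 : wordG F [4] = F.l := by simp [wordG, gfun]
  have h4 : wordG F [3, 4, 3, 3, 3] = F.l₂ := by
    rw [l₂, F.m_inv]
    simp [wordG, gfun, mul_assoc]
  rw [powWord, wordG_append, wordG_append, wordG_append, wordG_flatten, wordG_flatten, wordG_flatten,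
    wordG_flatten, h1, h2, h3, h4]

theorem exists_pow_word [Finite G] {b : G} (hb : b ∈ F.A) : ∃ v < 81, b = wordG F (powWord v) := by
  have key : ∀ b ∈ F.A, ∃ p q r t : ℕ, b = F.a ^ p * F.a₂ ^ q * F.l ^ r * F.l₂ ^ t := by
    intro b hb
    rw [Frame.A, ← Subgroup.mem_toSubmonoid, Subgroup.closure_toSubmonoid_of_finite] at hb
    induction hb using Submonoid.closure_induction_right with
    | one => exact ⟨0, 0, 0, 0, by simp⟩
    | mul_right y _ g hg ih =>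
      obtain ⟨p, q, r, t, rfl⟩ := ih
      simp only [Set.mem_insert_iff, Set.mem_singleton_iff] at hg
      rcases hg with rfl | rfl | rfl | rfl
      · refine ⟨p + 1, q, r, t, ?_⟩
        rw [mul_assoc _ (F.l₂ ^ t), ((F.a_l₂).symm.pow_left t).eq, ← mul_assoc, mul_assoc _ (F.l ^ r),
          ((F.a_l).symm.pow_left r).eq, ← mul_assoc, mul_assoc _ (F.a₂ ^ q), ((F.a_a₂).symm.pow_left q).eq,
          ← mul_assoc, pow_succ]
      · refine ⟨p, q + 1, r, t, ?_⟩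
        rw [show F.s * F.a * F.s = F.a₂ from rfl, mul_assoc _ (F.l₂ ^ t), ((F.a₂_l₂).symm.pow_left t).eq,
          ← mul_assoc, mul_assoc _ (F.l ^ r), ((F.a₂_l).symm.pow_left r).eq, ← mul_assoc, pow_succ F.a₂,
          ← mul_assoc (F.a ^ p)]
      · refine ⟨p, q, r + 1, t, ?_⟩
        rw [mul_assoc _ (F.l₂ ^ t), ((F.l_l₂).symm.pow_left t).eq, ← mul_assoc, pow_succ F.l,
          ← mul_assoc (F.a ^ p * F.a₂ ^ q)]
      · refine ⟨p, q, r, t + 1, ?_⟩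
        rw [show F.m * F.l * F.m⁻¹ = F.l₂ from rfl, pow_succ F.l₂, ← mul_assoc _ (F.l₂ ^ t)]
  obtain ⟨p, q, r, t, rfl⟩ := key b hb
  refine ⟨27 * (p % 3) + 9 * (q % 3) + 3 * (r % 3) + t % 3, by omega, ?_⟩
  rw [wordG_pow, pow_eq_pow_mod p F.a_three, pow_eq_pow_mod q F.a₂_three, pow_eq_pow_mod r F.l_three,
    pow_eq_pow_mod t F.l₂_three]
  congr 1
  · congr 1
    · congr 1
      · congr 1; omega
      · congr 1; omega
    · congr 1; omega
  · congr 1; omega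

theorem powWord_lt (v : ℕ) : ∀ q ∈ powWord v, q < 7 := by
  intro q hq
  simp only [powWord, List.mem_append, List.mem_flatten, List.mem_replicate] at hq
  rcases hq with ((⟨w, ⟨-, rfl⟩, hq⟩ | ⟨w, ⟨-, rfl⟩, hq⟩) | ⟨w, ⟨-, rfl⟩, hq⟩) | ⟨w, ⟨-, rfl⟩, hq⟩ <;>
    simp only [List.mem_cons, List.not_mem_nil, or_false] at hq <;> omega

variable [Finite G] (h : F.Facts)
include h

theorem z_ne : F.z ≠ 1 := fun e => by
  have := h.order_z
  rw [e, orderOf_one] at this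
  exact absurd this (by norm_num)

theorem i_not_mem : F.i ∉ M0 F := by
  intro hi
  set y := F.a * F.i * F.a⁻¹ * F.i⁻¹ with hy
  have hyA : y ∈ F.A := by
    have h1 : F.i * F.a⁻¹ * F.i⁻¹ ∈ F.A :=
      (Subgroup.mem_normalizer_iff.1 (F.M0_le_normalizer hi) _).1 (inv_mem F.a_mem)
    have h2 := mul_mem F.a_mem h1
    rwa [show F.a * (F.i * F.a⁻¹ * F.i⁻¹) = y by rw [hy]; group] at h2
  have hy3 : y ^ 3 = 1 := by
    obtain ⟨v, -, e⟩ := F.exists_pow_word hyA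
    rw [e, wordG_pow]
    have hc1 : Commute (F.a ^ (v / 27 % 3)) (F.a₂ ^ (v / 9 % 3)) := F.a_a₂.pow_pow _ _
    have hc2 : Commute (F.a ^ (v / 27 % 3) * F.a₂ ^ (v / 9 % 3)) (F.l ^ (v / 3 % 3)) :=
      (F.a_l.pow_pow _ _).mul_left (F.a₂_l.pow_pow _ _)
    have hc3 : Commute (F.a ^ (v / 27 % 3) * F.a₂ ^ (v / 9 % 3) * F.l ^ (v / 3 % 3)) (F.l₂ ^ (v % 3)) :=
      ((F.a_l₂.pow_pow _ _).mul_left (F.a₂_l₂.pow_pow _ _)).mul_left (F.l_l₂.pow_pow _ _)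
    rw [hc3.mul_pow, hc2.mul_pow, hc1.mul_pow, ← pow_mul, ← pow_mul, ← pow_mul, ← pow_mul, mul_comm (v / 27 % 3),
      mul_comm (v / 9 % 3), mul_comm (v / 3 % 3), mul_comm (v % 3), pow_mul, pow_mul, pow_mul, pow_mul, F.a_three,
      F.a₂_three, F.l_three, F.l₂_three]
    simp
  set j := F.a * F.i * F.a⁻¹ with hj
  have hji : j * F.i⁻¹ * j⁻¹ = F.i := by
    have h1 : j * F.i * j⁻¹ = F.i⁻¹ := F.j_i
    calc j * F.i⁻¹ * j⁻¹ = (j * F.i * j⁻¹)⁻¹ := by group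
      _ = F.i := by rw [h1, inv_inv]
  have hy2 : y * y = F.z := by
    have hjj : j * j = F.z := F.j_sq
    calc y * y = (j * F.i⁻¹ * j⁻¹) * (j * j) * F.i⁻¹ := by rw [hy]; group
      _ = F.i * F.z * F.i⁻¹ := by rw [hji, hjj]
      _ = F.z := by rw [Frame.z]; group
  have hy4 : y ^ 4 = 1 := by rw [show (4 : ℕ) = 2 + 2 from rfl, pow_add, pow_two, hy2, F.z_sq]
  have hy1 : y = 1 := by rw [pow_succ, hy3, one_mul] at hy4; exact hy4
  exact F.z_ne h (by rw [← hy2, hy1, one_mul])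

end Frame

end Cfsg.Lib.UFourThreeRecog
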