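import Cfsg.Agent.Lib.UFourThreeRecog.EnumData
import Cfsg.Agent.Lib.SUSixU43.ModelCheck

/-!
# Checks of the coset enumeration of a group of U₄(3) type
-/

set_option autoImplicit false
set_option maxRecDepth 100000

namespace Cfsg.Lib.UFourThreeRecog

open Cfsg.Lib.PermAut Cfsg.Lib.SUSixU43 Cfsg.Lib.J2Type

/-- The table of a letter. -/
def actT (q : ℕ) : ℕ := actTab.getD q 0

/-- The point moved to `x` by a word of letters, as tables. -/
noncomputable def evL (w : List ℕ) (x : ℕ) : ℕ := ev 7 (w.map actT) x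

/-- The node of a point. -/
def nodeOf (d : ℕ) : ℕ := Enum.tab cosetCert.live d

/-- The word of an element of the abelian subgroup. -/
def powWord (v : ℕ) : List ℕ :=
  (List.replicate (v / 27 % 3) [1]).flatten ++ (List.replicate (v / 9 % 3) [2, 1, 2]).flatten ++
    (List.replicate (v / 3 % 3) [4]).flatten ++ (List.replicate (v % 3) [3, 4, 3, 3, 3]).flatten

/-- Six points separating the elements used. -/
def keyPts : List ℕ := [0, 1, 109, 54, 12, 111]

theorem coset_lines : Enum.linesOK cosetCert = true := by decide +kernel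

theorem coset_final : Enum.finalOK cosetCert = true := by decide +kernel

theorem coset_act : ∀ c < 112, ∀ q < 7, Nat.div (Enum.tab cosetCert.final (7 * c + q)) 32768 < 112 ∧
    ent 7 (actT q) (Nat.div (Enum.tab cosetCert.final (7 * c + q)) 32768) = c := by decide +kernel

theorem act_lt : ∀ q < 7, ∀ x < 112, ent 7 (actT q) x < 112 := by decide +kernel

theorem act_words : ∀ q < 5, (∀ k ∈ actWords.getD q [], k < 2) ∧
    ∀ x < 112, ev 7 ((actWords.getD q []).map genP) x = ent 7 (actT q) x := by decide +kernel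

theorem model_words : ∀ k < 2, (∀ q ∈ modelWords.getD k [], q < 5) ∧
    ∀ x < 112, evL (modelWords.getD k []) x = ent 7 (genP k) x := by decide +kernel

theorem act_fix : ∀ q < 6, 1 ≤ q → ent 7 (actT q) 0 = 0 := by decide +kernel

theorem act_move : ent 7 (actT 0) 0 ≠ 0 := by decide +kernel

theorem cross_facts : crossData.1 < 112 ∧ crossData.2.2.1 < 112 ∧ crossData.1 ≠ 0 ∧ crossData.2.2.1 ≠ 0 ∧
    (∀ q ∈ crossData.2.1, q < 5) ∧ (∀ q ∈ crossData.2.2.2, q < 5) ∧
    evL crossData.2.1 0 ≠ 0 ∧ evL crossData.2.1 crossData.1 ≠ 0 ∧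
    (reachTab.getD (evL crossData.2.1 0) (0, [])).1 = crossData.1 ∧
    (reachTab.getD (evL crossData.2.1 crossData.1) (0, [])).1 = crossData.2.2.1 ∧
    evL crossData.2.2.2 0 ≠ 0 ∧ evL crossData.2.2.2 crossData.2.2.1 ≠ 0 ∧
    (reachTab.getD (evL crossData.2.2.2 0) (0, [])).1 = crossData.2.2.1 ∧
    (reachTab.getD (evL crossData.2.2.2 crossData.2.2.1) (0, [])).1 = crossData.1 := by decide +kernel

theorem reach_facts : ∀ d < 112, d ≠ 0 →
    ((reachTab.getD d (0, [])).1 = crossData.1 ∨ (reachTab.getD d (0, [])).1 = crossData.2.2.1) ∧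
    (∀ q ∈ (reachTab.getD d (0, [])).2, 1 ≤ q ∧ q < 6) ∧
    evL (reachTab.getD d (0, [])).2 (reachTab.getD d (0, [])).1 = d := by decide +kernel

theorem transit_facts : ∀ d < 112, (∀ q ∈ transitTab.getD d [], q < 5) ∧
    evL (transitTab.getD d []) 0 = d := by decide +kernel

theorem pow_faithful : ∀ v < 81, v ≠ 0 →
    ((List.range 112).any fun x => !Nat.beq (evL (powWord v) x) x) = true := by decide +kernel

theorem syl_len : sylElts.length = 128 ∧ sylGens.length = 6 ∧ sylElts.getD 0 [] = [] := by decide +kernel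

theorem syl_letters : (∀ w ∈ sylElts, ∀ q ∈ w, q < 5) ∧ (∀ w ∈ sylGens, ∀ q ∈ w, q < 5) ∧
    (∀ w ∈ sylConj, ∀ q ∈ w, q < 5) := by decide +kernel

theorem syl_next : ∀ k < 128, ∀ n < 6, (sylNext.getD k []).getD n 0 < 128 ∧ ∀ x < 112,
    evL (sylElts.getD k [] ++ sylGens.getD n []) x = evL (sylElts.getD ((sylNext.getD k []).getD n 0) []) x := by
  decide +kernel

theorem syl_keys : (sylElts.map fun w => keyPts.map (evL w)).Nodup := by decide +kernel

theorem syl_class : ∀ k < 128, k = 0 ∨
    ((List.range 112).any fun x => !Nat.beq (evL (sylElts.getD k [] ++ sylElts.getD k []) x) x) = true ∨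
    ∀ x < 112, evL (sylConj.getD k [] ++ [0, 0]) x = evL (sylElts.getD k [] ++ sylConj.getD k []) x := by
  decide +kernel

end Cfsg.Lib.UFourThreeRecog

namespace Cfsg.Lib.UFourThreeRecog

theorem syl_tree : ∀ k < 128, k = 0 ∨ ((List.range k).any fun k' => (List.range 6).any fun n =>
    Nat.beq ((sylNext.getD k' []).getD n 0) k) = true := by decide +kernel

end Cfsg.Lib.UFourThreeRecog
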