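import Cfsg.Agent.Lib.UFourThreeRecog.Frame
import Cfsg.Agent.Lib.UFourThreeRecog.EnumCheck
import Cfsg.Agent.Lib.SUSixU43.QSide

/-!
# A frame acts on the cosets of the point stabiliser as the model does on its points
-/

set_option autoImplicit false
set_option maxRecDepth 100000

namespace Cfsg.Lib.UFourThreeRecog

open Equiv MulAction Cfsg.Lib.PermAut Cfsg.Lib.SUSixU43 Cfsg.Lib.J2Type

attribute [local irreducible] actT evL nodeOf

/-- The permutation of a letter. -/
noncomputable def actP (q : ℕ) : Perm (Fin 112) := toP 7 112 (actT q)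

theorem actP_rep {q : ℕ} (hq : q < 7) : Rep 7 (actP q) (actT q) := by
  have h : Function.Bijective fun x : Fin 112 => (⟨ent 7 (actT q) x, act_lt q hq x x.2⟩ : Fin 112) :=
    Finite.surjective_iff_bijective.1 fun c => ⟨⟨_, (coset_act c c.2 q hq).1⟩, Fin.ext (coset_act c c.2 q hq).2⟩
  have hr : Rep 7 (Equiv.ofBijective _ h) (actT q) := fun x => rfl
  rw [actP, hr.toP_eq]
  exact hr

/-- The permutation of a word. -/
noncomputable def actW (w : List ℕ) : Perm (Fin 112) := (w.map actP).prod

theorem actW_append (u v : List ℕ) : actW (u ++ v) = actW u * actW v := by simp [actW]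

theorem actW_val {w : List ℕ} (hw : ∀ q ∈ w, q < 7) (x : Fin 112) : (actW w x : ℕ) = evL w x := by
  induction w with
  | nil => unfold evL; rfl
  | cons q w ih =>
    have h1 : actW (q :: w) x = actP q (actW w x) := by simp [actW]
    rw [h1, actP_rep (hw q (List.mem_cons_self ..)), ih fun p hp => hw p (List.mem_cons_of_mem _ hp)]
    unfold evL
    rfl

theorem actP_mem {q : ℕ} (hq : q < 5) : actP q ∈ Q112 := by
  have h := act_words q hq
  have e : actP q = ((actWords.getD q []).map piG).prod := by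
    refine Equiv.ext fun x => Fin.ext ?_
    rw [actP_rep (by omega : q < 7) x, ← h.2 x x.2]
    have key : ∀ w : List ℕ, (∀ k ∈ w, k < 2) → ev 7 (w.map genP) x = ((w.map piG).prod x : ℕ) := by
      intro w
      induction w with
      | nil => intro _; rfl
      | cons k w ih =>
        intro hw
        rw [List.map_cons, List.map_cons, List.prod_cons, Perm.mul_apply, piG_rep (hw k (List.mem_cons_self ..)),
          ← ih fun p hp => hw p (List.mem_cons_of_mem _ hp)]
        rfl
    exact key _ h.1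
  rw [e]
  refine Subgroup.list_prod_mem _ fun y hy => ?_
  obtain ⟨k, hk, rfl⟩ := List.mem_map.1 hy
  exact piG_mem (h.1 k hk)

theorem piG_eq_actW {k : ℕ} (hk : k < 2) : piG k = actW (modelWords.getD k []) :=
  Equiv.ext fun x => Fin.ext (by
    rw [piG_rep hk x, actW_val (fun q hq => Nat.lt_trans ((model_words k hk).1 q hq) (by norm_num)) x]
    exact ((model_words k hk).2 x x.2).symm)

variable {G : Type*} [Group G] (F : Frame G)

/-- The letters. -/
def gfun (q : ℕ) : G := [F.i, F.a, F.s, F.m, F.l, F.x, F.z].getD q 1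

/-- The value of a word. -/
def wordG (w : List ℕ) : G := (w.map (gfun F)).prod

theorem wordG_append (u v : List ℕ) : wordG F (u ++ v) = wordG F u * wordG F v := by simp [wordG]

/-- The group generated by a frame. -/
def G0 : Subgroup G := Subgroup.closure {F.i, F.a, F.s, F.m, F.l}

/-- The point stabiliser. -/
def M0 : Subgroup G := Subgroup.closure (gfun F '' {q | 1 ≤ q ∧ q < 6})

theorem gfun_mem_G0 : ∀ q < 7, gfun F q ∈ G0 F := by
  have hi : F.i ∈ G0 F := Subgroup.subset_closure (by simp)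
  have hs : F.s ∈ G0 F := Subgroup.subset_closure (by simp)
  intro q hq
  interval_cases q
  · exact hi
  iterate 4 exact Subgroup.subset_closure (by simp [gfun])
  · exact mul_mem (mul_mem (mul_mem (mul_mem hs hi) hs) (Subgroup.subset_closure (by simp [gfun])))
      (inv_mem (mul_mem (mul_mem hs hi) hs))
  · exact mul_mem hi hi

theorem wordG_mem {w : List ℕ} (hw : ∀ q ∈ w, q < 7) : wordG F w ∈ G0 F := by
  refine Subgroup.list_prod_mem _ fun y hy => ?_
  obtain ⟨q, hq, rfl⟩ := List.mem_map.1 hy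
  exact gfun_mem_G0 F q (hw q hq)

theorem M0_le : M0 F ≤ G0 F := by
  refine (Subgroup.closure_le _).2 ?_
  rintro _ ⟨q, hq, rfl⟩
  exact gfun_mem_G0 F q (by obtain ⟨-, h⟩ := hq; omega)

theorem frame_rels : ∀ r ∈ relList, Enum.wval (gfun F) r = 1 := by
  simp only [relList, List.forall_mem_cons, List.not_mem_nil, IsEmpty.forall_iff, implies_true, and_true]
  refine ⟨?_, ?_, ?_, ?_, ?_, ?_, ?_, ?_, ?_, ?_, ?_, ?_, ?_, ?_, ?_, ?_, ?_, ?_, ?_, ?_, ?_, ?_, ?_, ?_, ?_⟩
  all_goals simp only [Enum.wval, Enum.val, Enum.oneL, gfun, List.map_cons, List.map_nil, List.prod_cons,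
    List.prod_nil, List.getD_cons_succ, List.getD_cons_zero, Nat.reduceMod, Nat.reduceDiv, Nat.reduceLeDiff,
    if_false, if_true, one_ne_zero, mul_one]
  · simpa [pow_succ, mul_assoc] using F.i_four
  · simpa [pow_succ, mul_assoc] using F.a_three
  · simpa [mul_assoc] using F.s_sq
  · simpa [pow_succ, mul_assoc] using F.l_three
  · simpa [mul_assoc] using mul_inv_eq_one.2 F.j_sq
  · simpa [mul_assoc] using mul_inv_eq_one.2 F.a_j
  · simpa [mul_assoc] using mul_inv_eq_one.2 F.j_i
  · simpa [mul_assoc] using mul_inv_eq_one.2 F.comm_a_a₂.eq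
  · simpa [mul_assoc] using mul_inv_eq_one.2 F.comm_a_i₂.eq
  · simpa [mul_assoc] using mul_inv_eq_one.2 F.comm_i_i₂.eq
  · simpa [mul_assoc] using mul_inv_eq_one.2 F.i₂_sq
  · simpa [mul_assoc] using mul_inv_eq_one.2 F.m_sq
  · simpa [mul_assoc] using mul_inv_eq_one.2 F.s_m
  · simpa [mul_assoc] using mul_inv_eq_one.2 F.m_a
  · simpa [mul_assoc] using mul_inv_eq_one.2 F.m_i
  · simpa [mul_assoc] using mul_inv_eq_one.2 F.comm_l_a.eq
  · simpa [mul_assoc] using mul_inv_eq_one.2 F.comm_l_a₂.eq
  · simpa [mul_assoc] using mul_inv_eq_one.2 F.z_l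
  · simpa [mul_assoc] using mul_inv_eq_one.2 F.comm_s_l.eq
  · simpa [mul_assoc] using mul_inv_eq_one.2 F.comm_l_l₂.eq
  · simpa [mul_assoc] using mul_inv_eq_one.2 F.l_x
  · simpa [mul_assoc] using mul_inv_eq_one.2 F.comm_l_x₂.eq
  · simpa [mul_assoc] using mul_inv_eq_one.2 F.a₂_x
  · simp [Frame.x, mul_assoc]
  · simp [Frame.z, mul_assoc]

theorem coset_valid : Enum.Valid cosetCert (gfun F) (M0 F) := by
  refine ⟨fun q h => by simp [cosetCert] at h, frame_rels F, fun v hv => ?_⟩
  have h : ∀ q, 1 ≤ q → q < 6 → gfun F q ∈ M0 F := fun q h1 h2 => Subgroup.subset_closure ⟨q, ⟨h1, h2⟩, rfl⟩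
  simp only [cosetCert, List.mem_cons, List.not_mem_nil, or_false] at hv
  rcases hv with rfl | rfl | rfl | rfl | rfl <;>
    simp only [Enum.val, Enum.oneL, Nat.reduceMod, Nat.reduceDiv, Nat.reduceLeDiff, if_false, if_true] <;>
    exact h _ (by norm_num) (by norm_num)

/-- The coset of a point. -/
noncomputable def pt (d : Fin 112) : G ⧸ M0 F :=
  QuotientGroup.mk (Enum.rep cosetCert (gfun F) (nodeOf d))⁻¹

theorem pt_act {q : ℕ} (hq : q < 7) (d : Fin 112) : gfun F q • pt F d = pt F (actP q d) := by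
  obtain ⟨c, rfl⟩ := (actP q).symm.surjective d
  rw [Equiv.apply_symm_apply]
  have hfin := coset_final
  simp only [Enum.finalOK, Bool.and_eq_true, List.all_eq_true, List.mem_range] at hfin
  obtain ⟨⟨⟨⟨hi, -⟩, ha⟩, hb⟩, hl⟩ := hfin.2 c c.2 q hq
  set e := Enum.tab cosetCert.final (7 * c + q) with he
  have hd : ((actP q).symm c : ℕ) = Nat.div e 32768 := by
    have h1 := coset_act c c.2 q hq
    have h2 : actP q ⟨Nat.div e 32768, h1.1⟩ = c := Fin.ext ((actP_rep hq _).trans h1.2)
    rw [← h2, Equiv.symm_apply_apply]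
  have hedge : Enum.Edge cosetCert (gfun F) (M0 F) (Enum.tab cosetCert.live c) (2 * q)
      (Enum.tab cosetCert.live (Nat.div e 32768)) := by
    rw [← Nat.eq_of_beq_eq_true ha, ← Nat.eq_of_beq_eq_true hb, ← Nat.eq_of_beq_eq_true hl]
    exact Enum.seg_edge (coset_valid F) (Enum.edges (coset_valid F) coset_lines)
      (Nat.lt_of_succ_le (Nat.le_of_ble_eq_true hi))
  have hv : Enum.val (gfun F) (2 * q) = gfun F q := by
    unfold Enum.val Enum.oneL
    rw [if_neg (by omega), if_pos (by omega), Nat.mul_div_cancel_left q (by norm_num)]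
  unfold Enum.Edge at hedge
  rw [hv] at hedge
  symm
  show QuotientGroup.mk (Enum.rep cosetCert (gfun F) (nodeOf c))⁻¹ =
    QuotientGroup.mk (gfun F q * (Enum.rep cosetCert (gfun F) (nodeOf ((actP q).symm c)))⁻¹)
  rw [QuotientGroup.eq, inv_inv, hd]
  unfold nodeOf
  simpa [mul_assoc] using hedge

theorem pt_word {w : List ℕ} (hw : ∀ q ∈ w, q < 7) (d : Fin 112) : wordG F w • pt F d = pt F (actW w d) := by
  induction w with
  | nil => simp [wordG, actW]
  | cons q w ih =>
    rw [show wordG F (q :: w) = gfun F q * wordG F w by simp [wordG], mul_smul,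
      ih fun p hp => hw p (List.mem_cons_of_mem _ hp), pt_act F (hw q (List.mem_cons_self ..)),
      show actW (q :: w) = actP q * actW w by simp [actW], Perm.mul_apply]

theorem pt_zero : pt F 0 = ((1 : G) : G ⧸ M0 F) := by
  have h := coset_final
  simp only [Enum.finalOK, Bool.and_eq_true] at h
  unfold pt nodeOf
  rw [show ((0 : Fin 112) : ℕ) = 0 from rfl, Nat.eq_of_beq_eq_true h.1]
  simp [Enum.rep, Enum.repF]

end Cfsg.Lib.UFourThreeRecog
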