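import Cfsg.Agent.Lib.UFourThreeRecog.Normal

/-!
# The group generated by a frame is the model
-/

set_option autoImplicit false
set_option maxRecDepth 100000
set_option linter.unusedSectionVars false

namespace Cfsg.Lib.UFourThreeRecog

open Equiv MulAction Cfsg.Lib.PermAut Cfsg.Lib.SUSixU43

attribute [local irreducible] actT evL nodeOf

namespace Frame

variable {G : Type*} [Group G] [Finite G] {F : Frame G} (h : F.Facts)
include h

theorem pt_fix_of_mem {g : G} (hg : g ∈ M0 F) : g • pt F 0 = pt F 0 := by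
  rw [pt_zero]
  show ((g * 1 : G) : G ⧸ M0 F) = _
  rw [mul_one, QuotientGroup.eq, mul_one]
  exact inv_mem hg

theorem fibre_iff {w : List ℕ} (hw : ∀ q ∈ w, 1 ≤ q ∧ q < 6) (r : Fin 112) :
    pt F (actW w r) = pt F 0 ↔ pt F r = pt F 0 := by
  have hm : wordG F w ∈ M0 F := Subgroup.list_prod_mem _ fun y hy => by
    obtain ⟨q, hq, rfl⟩ := List.mem_map.1 hy
    exact Subgroup.subset_closure ⟨q, hw q hq, rfl⟩
  rw [← pt_word F (fun q hq => Nat.lt_trans (hw q hq).2 (by norm_num)) r]
  conv_lhs => rhs; rw [← pt_fix_of_mem h hm]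
  exact (MulAction.injective (wordG F w)).eq_iff

theorem pt_injective : Function.Injective (pt F) := by
  classical
  obtain ⟨hr1, hr2, hn1, hn2, hu1, hu2, hu10, hu1r, hs1, hs1', hu20, hu2r, hs2, hs2'⟩ := cross_facts
  set r₁ : Fin 112 := ⟨crossData.1, hr1⟩ with hr₁
  set r₂ : Fin 112 := ⟨crossData.2.2.1, hr2⟩ with hr₂
  have hside : ∀ d : Fin 112, d ≠ 0 → ∀ r : Fin 112, (r : ℕ) = (reachTab.getD d (0, [])).1 →
      (pt F d = pt F 0 ↔ pt F r = pt F 0) := by
    intro d hd r hr
    obtain ⟨-, hlet, hev⟩ := reach_facts d d.2 (fun e => hd (Fin.ext e))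
    have e : d = actW (reachTab.getD d (0, [])).2 r :=
      Fin.ext (((actW_val (fun q hq => Nat.lt_trans (hlet q hq).2 (by norm_num)) r).trans
        (by rw [hr]; exact hev)).symm)
    conv_lhs => lhs; rw [e]
    exact fibre_iff h hlet _
  have hcross : ∀ (r s : Fin 112) (u : List ℕ), (∀ q ∈ u, q < 5) → evL u 0 ≠ 0 → evL u r ≠ 0 →
      (reachTab.getD (evL u 0) (0, [])).1 = r → (reachTab.getD (evL u r) (0, [])).1 = s →
      pt F r = pt F 0 → pt F s = pt F 0 := by
    intro r s u hu h0 hr e0 er hrr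
    have hu7 : ∀ q ∈ u, q < 7 := fun q hq => Nat.lt_trans (hu q hq) (by norm_num)
    have e : pt F (actW u r) = pt F (actW u 0) := by
      rw [← pt_word F hu7, ← pt_word F hu7, hrr]
    have v0 := actW_val hu7 0
    rw [Fin.val_zero] at v0
    have vr := actW_val hu7 r
    have n0 : actW u 0 ≠ 0 := fun e' => h0 (by rw [e', Fin.val_zero] at v0; exact v0.symm)
    have nr : actW u r ≠ 0 := fun e' => hr (by rw [e', Fin.val_zero] at vr; exact vr.symm)
    have h1 : pt F (actW u 0) = pt F 0 := (hside _ n0 r (by rw [v0, e0])).2 hrr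
    exact (hside _ nr s (by rw [vr, er])).1 (e.trans h1)
  intro c d hcd
  by_contra hne
  -- move the first point to the base point
  obtain ⟨ht, htv⟩ := transit_facts c c.2
  set w := transitTab.getD c []
  have hw7 : ∀ q ∈ w, q < 7 := fun q hq => Nat.lt_trans (ht q hq) (by norm_num)
  have hc : actW w 0 = c := Fin.ext ((actW_val hw7 0).trans htv)
  obtain ⟨e, he⟩ := (actW w).surjective d
  have he0 : e ≠ 0 := fun e' => hne (by rw [← hc, ← he, e'])
  have heq : pt F e = pt F 0 := by
    refine MulAction.injective (wordG F w) ?_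
    show wordG F w • pt F e = wordG F w • pt F 0
    rw [pt_word F hw7, pt_word F hw7, he, hc, hcd]
  have hboth : pt F r₁ = pt F 0 ∧ pt F r₂ = pt F 0 := by
    rcases (reach_facts e e.2 (fun e' => he0 (Fin.ext e'))).1 with e' | e'
    · have hh : pt F r₁ = pt F 0 := (hside e he0 r₁ e'.symm).1 heq
      exact ⟨hh, hcross r₁ r₂ _ hu1 hu10 hu1r hs1 hs1' hh⟩
    · have hh : pt F r₂ = pt F 0 := (hside e he0 r₂ e'.symm).1 heq
      exact ⟨hcross r₂ r₁ _ hu2 hu20 hu2r hs2 hs2' hh, hh⟩
  have hall : pt F (actP 0 0) = pt F 0 := by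
    have hd0 : actP 0 0 ≠ (0 : Fin 112) := fun e' => act_move
      ((actP_rep (by norm_num : 0 < 7) 0).symm.trans (congrArg Fin.val e'))
    rcases (reach_facts _ (actP 0 0).2 (fun e' => hd0 (Fin.ext e'))).1 with e' | e'
    · exact (hside _ hd0 r₁ e'.symm).2 hboth.1
    · exact (hside _ hd0 r₂ e'.symm).2 hboth.2
  rw [← pt_act F (by norm_num : 0 < 7), pt_zero] at hall
  have : ((gfun F 0 * 1 : G) : G ⧸ M0 F) = ((1 : G) : G ⧸ M0 F) := hall
  rw [mul_one, QuotientGroup.eq, mul_one, inv_mem_iff] at this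
  exact F.i_not_mem h this

/-- An element of the group acting trivially is trivial. -/
theorem eq_one_of_fix {n : G} (hn : n ∈ G0 F) (hfix : ∀ d, n • pt F d = pt F d) : n = 1 := by
  classical
  have hA : ∀ b ∈ F.A, (∀ d, b • pt F d = pt F d) → b = 1 := by
    intro b hb hb'
    obtain ⟨v, hv, rfl⟩ := F.exists_pow_word hb
    by_contra hne
    have hv0 : v ≠ 0 := fun e => hne (by rw [e]; simp [powWord, wordG])
    obtain ⟨x, hx, hx'⟩ := List.any_eq_true.1 (pow_faithful v hv hv0)
    rw [List.mem_range] at hx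
    have h1 := hb' ⟨x, hx⟩
    rw [pt_word F (powWord_lt v)] at h1
    have h2 := congrArg Fin.val (pt_injective h h1)
    rw [actW_val (powWord_lt v)] at h2
    simp only [h2] at hx'
    simp at hx'
  have hAG : F.A ≤ G0 F := by
    intro b hb
    obtain ⟨v, -, rfl⟩ := F.exists_pow_word hb
    exact wordG_mem F (powWord_lt v)
  have hinv : ∀ g ∈ G0 F, ∀ d, ∃ d', g • pt F d = pt F d' := by
    intro g hg
    rw [G0, ← Subgroup.mem_toSubmonoid, Subgroup.closure_toSubmonoid_of_finite] at hg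
    induction hg using Submonoid.closure_induction with
    | one => exact fun d => ⟨d, one_smul _ _⟩
    | mem y hy =>
      intro d
      simp only [Set.mem_insert_iff, Set.mem_singleton_iff] at hy
      rcases hy with rfl | rfl | rfl | rfl | rfl
      exacts [⟨_, pt_act F (q := 0) (by norm_num) d⟩, ⟨_, pt_act F (q := 1) (by norm_num) d⟩,
        ⟨_, pt_act F (q := 2) (by norm_num) d⟩, ⟨_, pt_act F (q := 3) (by norm_num) d⟩,
        ⟨_, pt_act F (q := 4) (by norm_num) d⟩]
    | mul y y' _ _ hy hy' =>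
      intro d
      obtain ⟨d', e'⟩ := hy' d
      obtain ⟨d'', e''⟩ := hy d'
      exact ⟨d'', by rw [mul_smul, e', e'']⟩
  have hnM : n ∈ M0 F := by
    have h0 := hfix 0
    rw [pt_zero] at h0
    have : ((n * 1 : G) : G ⧸ M0 F) = ((1 : G) : G ⧸ M0 F) := h0
    rwa [mul_one, QuotientGroup.eq, mul_one, inv_mem_iff] at this
  have hnC : n ∈ Subgroup.centralizer (F.A : Set G) := by
    refine Subgroup.mem_centralizer_iff.2 fun b hb => ?_
    have hc : n * b * n⁻¹ * b⁻¹ = 1 := by
      refine hA _ (mul_mem ((Subgroup.mem_normalizer_iff.1 (F.M0_le_normalizer hnM) b).1 hb) (inv_mem hb))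
        fun d => ?_
      have hn' : ∀ d, n⁻¹ • pt F d = pt F d := fun d => inv_smul_eq_iff.2 (hfix d).symm
      obtain ⟨d', e'⟩ := hinv _ (inv_mem (hAG hb)) d
      rw [mul_smul, mul_smul, mul_smul, e', hn', ← e', smul_inv_smul, hfix]
    exact ((mul_inv_eq_iff_eq_mul.1 (mul_inv_eq_one.1 hc))).symm
  rw [h.centralizer_A] at hnC
  exact hA n hnC hfix

/-- The graph of the action. -/
noncomputable def graphSub (F : Frame G) : Subgroup (G × Perm (Fin 112)) :=
  Subgroup.closure {p | ∃ q < 5, p = (gfun F q, actP q)}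

theorem graph_act {p : G × Perm (Fin 112)} (hp : p ∈ graphSub F) : ∀ d, p.1 • pt F d = pt F (p.2 d) := by
  induction hp using Subgroup.closure_induction with
  | mem y hy =>
    obtain ⟨q, hq, rfl⟩ := hy
    exact fun d => pt_act F (by omega) d
  | one => intro d; simp
  | mul y y' _ _ hy hy' => intro d; rw [Prod.fst_mul, mul_smul, hy', hy, Prod.snd_mul, Perm.mul_apply]
  | inv y _ hy =>
    intro d
    rw [Prod.fst_inv, inv_smul_eq_iff, hy, Prod.snd_inv]
    simp

theorem word_mem {w : List ℕ} (hw : ∀ q ∈ w, q < 5) : (wordG F w, actW w) ∈ graphSub F := by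
  induction w with
  | nil => exact one_mem _
  | cons q w ih =>
    have h1 : (gfun F q, actP q) ∈ graphSub F := Subgroup.subset_closure ⟨q, hw q (List.mem_cons_self ..), rfl⟩
    have h2 := mul_mem h1 (ih fun p hp => hw p (List.mem_cons_of_mem _ hp))
    simpa [wordG, actW] using h2

theorem graph_fst : (graphSub F).map (MonoidHom.fst G (Perm (Fin 112))) = G0 F := by
  rw [graphSub, MonoidHom.map_closure, G0]
  congr 1
  ext y
  constructor
  · rintro ⟨p, ⟨q, hq, rfl⟩, rfl⟩
    interval_cases q <;> simp [gfun]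
  · intro hy
    simp only [Set.mem_insert_iff, Set.mem_singleton_iff] at hy
    rcases hy with rfl | rfl | rfl | rfl | rfl
    exacts [⟨_, ⟨0, by norm_num, rfl⟩, rfl⟩, ⟨_, ⟨1, by norm_num, rfl⟩, rfl⟩, ⟨_, ⟨2, by norm_num, rfl⟩, rfl⟩,
      ⟨_, ⟨3, by norm_num, rfl⟩, rfl⟩, ⟨_, ⟨4, by norm_num, rfl⟩, rfl⟩]

theorem graph_snd : (graphSub F).map (MonoidHom.snd G (Perm (Fin 112))) = Q112 := by
  refine le_antisymm ?_ ((Subgroup.closure_le _).2 ?_)
  · rw [graphSub, MonoidHom.map_closure, Subgroup.closure_le]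
    rintro _ ⟨_, ⟨q, hq, rfl⟩, rfl⟩
    exact actP_mem hq
  · have hk : ∀ k < 2, piG k ∈ (graphSub F).map (MonoidHom.snd G (Perm (Fin 112))) := fun k hk =>
      ⟨_, word_mem h (model_words k hk).1, (piG_eq_actW hk).symm⟩
    rintro g (rfl | rfl)
    exacts [hk 0 (by norm_num), hk 1 (by norm_num)]

theorem graph_inj_fst {p : G × Perm (Fin 112)} (hp : p ∈ graphSub F) (e : p.1 = 1) : p.2 = 1 :=
  Equiv.ext fun d => by
    have h1 := graph_act h hp d
    rw [e, one_smul] at h1
    exact (pt_injective h h1).symm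

theorem graph_inj_snd {p : G × Perm (Fin 112)} (hp : p ∈ graphSub F) (e : p.2 = 1) : p.1 = 1 := by
  refine eq_one_of_fix h ?_ fun d => ?_
  · rw [← graph_fst h]; exact ⟨p, hp, rfl⟩
  · rw [graph_act h hp, e, Perm.one_apply]

/-- The group generated by a frame is the model. -/
theorem G0_equiv : Nonempty (↥(G0 F) ≃* ↥Q112) := by
  let φ := (MonoidHom.fst G (Perm (Fin 112))).comp (graphSub F).subtype
  let ψ := (MonoidHom.snd G (Perm (Fin 112))).comp (graphSub F).subtype
  have hφ : Function.Injective φ := (injective_iff_map_eq_one φ).2 fun p e =>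
    Subtype.ext (Prod.ext e (graph_inj_fst h p.2 e))
  have hψ : Function.Injective ψ := (injective_iff_map_eq_one ψ).2 fun p e =>
    Subtype.ext (Prod.ext (graph_inj_snd h p.2 e) e)
  have eφ : φ.range = G0 F := by rw [MonoidHom.range_comp, Subgroup.range_subtype, graph_fst h]
  have eψ : ψ.range = Q112 := by rw [MonoidHom.range_comp, Subgroup.range_subtype, graph_snd h]
  exact ⟨(MulEquiv.subgroupCongr eφ).symm.trans ((MonoidHom.ofInjective hφ).symm.trans
    ((MonoidHom.ofInjective hψ).trans (MulEquiv.subgroupCongr eψ)))⟩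

theorem card_G0 : Nat.card ↥(G0 F) = 3265920 := by
  obtain ⟨e⟩ := G0_equiv h
  rw [Nat.card_congr e.toEquiv, card_Q112]

/-- Words with equal permutations have equal values. -/
theorem word_eq {u v : List ℕ} (hu : ∀ q ∈ u, q < 5) (hv : ∀ q ∈ v, q < 5)
    (e : ∀ x < 112, evL u x = evL v x) : wordG F u = wordG F v := by
  have h7 : ∀ {w : List ℕ}, (∀ q ∈ w, q < 5) → ∀ q ∈ w, q < 7 := fun hw q hq =>
    Nat.lt_trans (hw q hq) (by norm_num)
  have he : actW u = actW v := Equiv.ext fun x => Fin.ext (by rw [actW_val (h7 hu), actW_val (h7 hv), e x x.2])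
  exact mul_inv_eq_one.1 (graph_inj_snd h (mul_mem (word_mem h hu) (inv_mem (word_mem h hv)))
    (show actW u * (actW v)⁻¹ = 1 by rw [he, mul_inv_cancel]))

end Frame

end Cfsg.Lib.UFourThreeRecog
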