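import Cfsg.Agent.Lib.UFourThreeRecog.GraphData
import Cfsg.Agent.Lib.SUSixU43.ModelCheck

/-!
# Checks for the graph of `PSU(4, 3)` on 112 points

In coordinates the points are numbered so: `a < 81` is the vector with ternary digits `a`, the leading digit
being the coordinate `x₀` of the form `-x₀² + x₁² + x₂² + x₃²`; `81 + 3 * i + c` is the affine hyperplane
`dirTab i · x = c`; `111` is the point at infinity. Infinity sees the hyperplanes, two hyperplanes see each
other when parallel, a vector sees the hyperplanes through it and the vectors with a singular difference.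
-/

set_option autoImplicit false
set_option maxRecDepth 100000

namespace Cfsg.Lib.UFourThreeRecog

open Cfsg.Lib.PermAut Cfsg.Lib.SUSixU43

/-- A ternary digit. -/
def dig3 (a k : ℕ) : ℕ := a / 3 ^ k % 3

/-- The singular directions up to sign. -/
def dirTab : List ℕ := [13, 14, 16, 17, 28, 29, 30, 33, 36, 45]

/-- The form at a difference of two vectors. -/
def qDiff (a b : ℕ) : ℕ :=
  (2 * (dig3 a 3 + 2 * dig3 b 3) ^ 2 + (dig3 a 2 + 2 * dig3 b 2) ^ 2 + (dig3 a 1 + 2 * dig3 b 1) ^ 2
    + (dig3 a 0 + 2 * dig3 b 0) ^ 2) % 3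

/-- The standard product. -/
def dotC (a b : ℕ) : ℕ :=
  (dig3 a 3 * dig3 b 3 + dig3 a 2 * dig3 b 2 + dig3 a 1 * dig3 b 1 + dig3 a 0 * dig3 b 0) % 3

/-- A vector on a hyperplane. -/
def onPlane (a p : ℕ) : Bool := Nat.beq (dotC (dirTab.getD ((p - 81) / 3) 0) a) ((p - 81) % 3)

/-- Adjacency in coordinates. -/
def adjU (i j : ℕ) : Bool :=
  bif Nat.beq i j then false else bif Nat.beq i 111 then Nat.ble 81 j else bif Nat.beq j 111 then Nat.ble 81 i else
  bif Nat.blt i 81 then (bif Nat.blt j 81 then Nat.beq (qDiff i j) 0 else onPlane i j) else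
  bif Nat.blt j 81 then onPlane j i else Nat.beq ((i - 81) / 3) ((j - 81) / 3)

/-- The coordinates of a model point. -/
def lab (x : ℕ) : ℕ := ent 7 labTab x

/-- Adjacency of model points. -/
def adjM (x y : ℕ) : Bool := Nat.beq (ent 1 (graphRows.getD x 0) y) 1

theorem lab_lt : ∀ x < 112, lab x < 112 := by decide +kernel

theorem lab_inj : ∀ x < 112, ∀ y < 112, lab x = lab y → x = y := by decide +kernel

theorem adj_lab : ∀ x < 112, ∀ y < 112, adjU (lab x) (lab y) = adjM x y := by decide +kernel

theorem gens_adj : ∀ k < 2, ∀ x < 112, ∀ y < 112, adjM (ent 7 (genP k) x) (ent 7 (genP k) y) = adjM x y := by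
  decide +kernel

/-- The first colour fixing some points. -/
def startCol (B : List ℕ) (x : ℕ) : ℕ := bif B.elem x then B.idxOf x + 1 else 0

/-- The signature of a point for a colouring. -/
def sigC (col : ℕ → ℕ) (x : ℕ) : ℕ :=
  col x + 256 * ((List.finRange 112).map fun y : Fin 112 => bif adjM x y then 31 ^ col y else 0).sum

/-- The colour given by a packed table. -/
def colT (T x : ℕ) : ℕ := ent 8 T x

/-- A refinement step is the position of the signature. -/
def stepB (col : ℕ → ℕ) (p : List ℕ × ℕ) : Bool :=
  (List.finRange 112).all fun x : Fin 112 => Nat.beq (p.1.idxOf (sigC col x)) (colT p.2 x)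

/-- A chain of refinements. -/
def chainB : (ℕ → ℕ) → List (List ℕ × ℕ) → Bool
  | _, [] => true
  | col, p :: l => stepB col p && chainB (colT p.2) l

/-- The last colouring of a chain. -/
def lastCol : (ℕ → ℕ) → List (List ℕ × ℕ) → ℕ → ℕ
  | col, [] => col
  | _, p :: l => lastCol (colT p.2) l

/-- The colouring that fixes the first base points. -/
def levelCol (k : ℕ) : ℕ → ℕ := lastCol (startCol (basePts.take k)) (refinements.getD k [])

theorem chain_ok : ∀ k < 7, chainB (startCol (basePts.take k)) (refinements.getD k []) = true := by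
  decide +kernel

theorem class_ok : ∀ k < 6, ((List.finRange 112).filter fun x : Fin 112 =>
    Nat.beq (levelCol k x) (levelCol k (basePts.getD k 0))).length ≤ baseSizes.getD k 0 := by decide +kernel

theorem last_inj : ∀ x < 112, ∀ y < 112, levelCol 6 x = levelCol 6 y → x = y := by decide +kernel

theorem base_lt : ∀ k < 6, basePts.getD k 0 < 112 := by decide +kernel

theorem sizes_prod : baseSizes.getD 0 0 * baseSizes.getD 1 0 * baseSizes.getD 2 0 * baseSizes.getD 3 0 *
    baseSizes.getD 4 0 * baseSizes.getD 5 0 = 8 * 3265920 := by decide +kernel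

end Cfsg.Lib.UFourThreeRecog
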