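import Cfsg.Agent.Lib.UFourThreeRecog.Model
import Cfsg.Agent.Lib.UFourThreeRecog.GraphCheck

/-!
# A simple group of order 3265920 preserving the graph on 112 points is `PSU(4, 3)`
-/

set_option autoImplicit false
set_option maxRecDepth 100000

namespace Cfsg.Lib.UFourThreeRecog

open Cfsg Equiv MulAction Cfsg.Lib.PermAut Cfsg.Lib.SUSixU43

attribute [local irreducible] adjM adjU lab genP ent

/-- The automorphisms of the graph on model points. -/
def AutM : Subgroup (Perm (Fin 112)) where
  carrier := {g | ∀ x y : Fin 112, adjM (g x) (g y) = adjM x y}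
  mul_mem' := fun {g h} hg hh x y => by rw [Perm.mul_apply, Perm.mul_apply, hg, hh]
  one_mem' := fun _ _ => rfl
  inv_mem' := fun {g} hg x y => by
    conv_rhs => rw [← (show g (g⁻¹ x) = x by simp), ← (show g (g⁻¹ y) = y by simp), hg]

/-- The automorphisms fixing the first base points. -/
def fixM (k : ℕ) : Subgroup (Perm (Fin 112)) where
  carrier := {g | g ∈ AutM ∧ ∀ x : Fin 112, (x : ℕ) ∈ basePts.take k → g x = x}
  mul_mem' := fun {g h} hg hh => ⟨mul_mem hg.1 hh.1, fun x hx => by rw [Perm.mul_apply, hh.2 x hx, hg.2 x hx]⟩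
  one_mem' := ⟨one_mem _, fun _ _ => rfl⟩
  inv_mem' := fun {g} hg => ⟨inv_mem hg.1, fun x hx => by
    conv_lhs => rw [← hg.2 x hx]
    simp⟩

theorem chain_inv {g : Perm (Fin 112)} (hg : g ∈ AutM) :
    ∀ (l : List (List ℕ × ℕ)) (col : ℕ → ℕ), (∀ x : Fin 112, col (g x) = col x) → chainB col l = true →
      ∀ x : Fin 112, lastCol col l (g x) = lastCol col l x
  | [], _, hcol, _, x => hcol x
  | p :: l, col, hcol, hok, x => by
    rw [chainB, Bool.and_eq_true] at hok
    refine chain_inv hg l (colT p.2) (fun z => ?_) hok.2 x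
    have hs : ∀ w : Fin 112, p.1.idxOf (sigC col w) = colT p.2 w := fun w =>
      Nat.eq_of_beq_eq_true (List.all_eq_true.1 hok.1 w (List.mem_finRange w))
    have hsig : sigC col (g z) = sigC col z := by
      unfold sigC
      rw [hcol z, ← ((Equiv.Perm.map_finRange_perm g).map
        (fun y : Fin 112 => bif adjM (g z) y then 31 ^ col y else 0)).sum_eq, List.map_map]
      refine congrArg (fun t => col z + 256 * t) (congrArg List.sum (List.map_congr_left fun y _ => ?_))
      show (bif adjM (g z) (g y) then 31 ^ col (g y) else 0) = _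
      rw [hg, hcol]
    rw [← hs, ← hs, hsig]

theorem level_inv {k : ℕ} (hk : k < 7) {g : Perm (Fin 112)} (hg : g ∈ fixM k) (x : Fin 112) :
    levelCol k (g x) = levelCol k x := by
  refine chain_inv hg.1 _ _ (fun z => ?_) (chain_ok k hk) x
  by_cases hz : (z : ℕ) ∈ basePts.take k
  · rw [hg.2 z hz]
  · have hgz : (g z : ℕ) ∉ basePts.take k := fun h => hz (by
      have e := hg.2 (g z) h
      rw [g.injective e] at h
      exact h)
    simp only [startCol, show (basePts.take k).elem (z : ℕ) = false by simpa using hz,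
      show (basePts.take k).elem (g z : ℕ) = false by simpa using hgz, cond_false]

theorem fix_last : fixM 6 = ⊥ := by
  refine (Subgroup.eq_bot_iff_forall _).2 fun g hg => Equiv.ext fun x => ?_
  exact Fin.ext (last_inj _ (g x).2 _ x.2 (level_inv (by norm_num) hg x))

theorem fix_zero : fixM 0 = AutM := by
  ext g
  exact ⟨fun h => h.1, fun h => ⟨h, fun x hx => by simp at hx⟩⟩

theorem card_fix_step {k : ℕ} (hk : k < 6) :
    Nat.card (fixM k) ≤ baseSizes.getD k 0 * Nat.card (fixM (k + 1)) := by
  classical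
  set b : Fin 112 := ⟨basePts.getD k 0, base_lt k hk⟩
  have hlen : k < basePts.length := by
    have : basePts.length = 6 := by decide
    omega
  have hb : ∀ x : Fin 112, (x : ℕ) ∈ basePts.take (k + 1) ↔ (x : ℕ) ∈ basePts.take k ∨ x = b := by
    intro x
    rw [List.take_add_one, List.mem_append, List.getElem?_eq_getElem hlen]
    simp only [Option.toList_some, List.mem_singleton, Fin.ext_iff, b, List.getD_eq_getElem _ _ hlen]
  rw [← Nat.card_congr (MulAction.orbitProdStabilizerEquivGroup ↥(fixM k) b), Nat.card_prod]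
  refine Nat.mul_le_mul ?_ ?_
  · refine le_trans ?_ (class_ok k hk)
    rw [← List.toFinset_card_of_nodup ((List.nodup_finRange 112).filter _), ← Set.ncard_coe_finset,
      Nat.card_coe_set_eq]
    refine Set.ncard_le_ncard ?_ (Finset.finite_toSet _)
    rintro _ ⟨g, rfl⟩
    simp only [List.coe_toFinset, List.mem_filter, List.mem_finRange, true_and, Set.mem_setOf_eq]
    show Nat.beq (levelCol k ((g : Perm (Fin 112)) b)) (levelCol k b) = true
    rw [level_inv (by omega) g.2 b]
    exact Nat.beq_refl _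
  · refine Nat.card_le_card_of_injective
      (fun g : stabilizer ↥(fixM k) b => (⟨(g.1 : Perm (Fin 112)), g.1.2.1, fun x hx => ?_⟩ : fixM (k + 1)))
      fun g h e => Subtype.ext (Subtype.ext (Subtype.mk.inj e))
    rcases (hb x).1 hx with hx | rfl
    exacts [g.1.2.2 x hx, g.2]

theorem card_AutM_le : Nat.card AutM ≤ 8 * 3265920 := by
  rw [← fix_zero, ← sizes_prod]
  have h6 : Nat.card (fixM 6) = 1 := by rw [fix_last, Subgroup.card_bot]
  calc Nat.card (fixM 0) ≤ baseSizes.getD 0 0 * Nat.card (fixM 1) := card_fix_step (by norm_num)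
    _ ≤ baseSizes.getD 0 0 * (baseSizes.getD 1 0 * (baseSizes.getD 2 0 * (baseSizes.getD 3 0 *
        (baseSizes.getD 4 0 * (baseSizes.getD 5 0 * Nat.card (fixM 6)))))) := by
      refine Nat.mul_le_mul_left _ ((card_fix_step (by norm_num)).trans (Nat.mul_le_mul_left _ ?_))
      refine (card_fix_step (by norm_num)).trans (Nat.mul_le_mul_left _ ?_)
      refine (card_fix_step (by norm_num)).trans (Nat.mul_le_mul_left _ ?_)
      refine (card_fix_step (by norm_num)).trans (Nat.mul_le_mul_left _ ?_)
      exact card_fix_step (by norm_num)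
    _ = _ := by rw [h6]; ring

theorem Q112_le_AutM : Q112 ≤ AutM := by
  refine (Subgroup.closure_le _).2 ?_
  have h : ∀ k < 2, piG k ∈ AutM := fun k hk x y => by
    rw [piG_rep hk x, piG_rep hk y]
    exact gens_adj k hk x x.2 y y.2
  rintro g (rfl | rfl)
  exacts [h 0 (by norm_num), h 1 (by norm_num)]

/-- A simple group of order 3265920 acting on the model graph is the model. -/
theorem iso_model_of_adjM {G : Type*} [Group G] [Finite G] [IsSimpleGroup G]
    (hcard : Nat.card G = 3265920) (ρ : G →* Perm (Fin 112)) (hρ : ρ ≠ 1) (hmem : ∀ g, ρ g ∈ AutM) :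
    Nonempty (G ≃* ↥Q112) := by
  classical
  have hinj : Function.Injective ρ := by
    rw [← MonoidHom.ker_eq_bot_iff]
    refine (IsSimpleGroup.eq_bot_or_eq_top_of_normal ρ.ker (MonoidHom.normal_ker ρ)).resolve_right fun h => hρ ?_
    ext1 g
    exact MonoidHom.mem_ker.1 (h ▸ Subgroup.mem_top g)
  let σ : G →* ↥AutM := ρ.codRestrict AutM hmem
  set K : Subgroup ↥AutM := Q112.subgroupOf AutM with hK
  have hidx : K.index ≤ 8 := by
    have h := K.card_mul_index
    rw [show Nat.card K = 3265920 by
      rw [hK, Nat.card_congr (Subgroup.subgroupOfEquivOfLe Q112_le_AutM).toEquiv, card_Q112]] at h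
    have := card_AutM_le
    omega
  let f : G →* Perm (↥AutM ⧸ K) := (MulAction.toPermHom ↥AutM (↥AutM ⧸ K)).comp σ
  have hker : f.ker = ⊤ := by
    refine (IsSimpleGroup.eq_bot_or_eq_top_of_normal f.ker (MonoidHom.normal_ker f)).resolve_left fun e => ?_
    have hle := Nat.card_le_card_of_injective f ((MonoidHom.ker_eq_bot_iff f).1 e)
    rw [hcard, Nat.card_perm, ← Subgroup.index] at hle
    exact absurd (hle.trans (Nat.factorial_le hidx)) (by decide)
  have hle : ρ.range ≤ Q112 := by
    rintro _ ⟨k, rfl⟩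
    have hk : f k = 1 := MonoidHom.mem_ker.1 (hker ▸ Subgroup.mem_top k)
    have h1 : σ k • ((1 : ↥AutM) : ↥AutM ⧸ K) = ((1 : ↥AutM) : ↥AutM ⧸ K) :=
      DFunLike.congr_fun hk ((1 : ↥AutM) : ↥AutM ⧸ K)
    rw [show σ k • ((1 : ↥AutM) : ↥AutM ⧸ K) = ((σ k * 1 : ↥AutM) : ↥AutM ⧸ K) from rfl, mul_one,
      QuotientGroup.eq, mul_one, inv_mem_iff] at h1
    exact h1
  have he : ρ.range = Q112 := Subgroup.eq_of_le_of_card_ge hle (by
    rw [← Nat.card_congr (MonoidHom.ofInjective hinj).toEquiv, hcard, card_Q112])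
  exact ⟨(MonoidHom.ofInjective hinj).trans (MulEquiv.subgroupCongr he)⟩

/-- The coordinates as a permutation. -/
noncomputable def labPerm : Perm (Fin 112) :=
  Equiv.ofBijective (fun x : Fin 112 => (⟨lab x, lab_lt x x.2⟩ : Fin 112))
    (Finite.injective_iff_bijective.1 fun x y h => Fin.ext (lab_inj x x.2 y y.2 (congrArg Fin.val h)))

theorem adjU_labPerm (x y : Fin 112) : adjU (labPerm x) (labPerm y) = adjM x y := adj_lab x x.2 y y.2

/-- A simple group of order 3265920 acting on the graph given in coordinates is the model. -/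
theorem iso_model_of_adjU {G : Type*} [Group G] [Finite G] [IsSimpleGroup G]
    (hcard : Nat.card G = 3265920) (ρ : G →* Perm (Fin 112)) (hρ : ρ ≠ 1)
    (hadj : ∀ g, ∀ i j : Fin 112, adjU (ρ g i) (ρ g j) = adjU i j) : Nonempty (G ≃* ↥Q112) := by
  refine iso_model_of_adjM hcard ((MulAut.conj labPerm⁻¹).toMonoidHom.comp ρ) (fun h => hρ ?_) fun g x y => ?_
  · ext1 g
    exact (MulAut.conj labPerm⁻¹).injective ((DFunLike.congr_fun h g).trans (map_one _).symm)
  · rw [← adjU_labPerm, ← adjU_labPerm]
    simpa [MulAut.conj_apply] using hadj g (labPerm x) (labPerm y)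

/-- Recognition of `PSU 4 K 3` by an action on points labelled by coordinates. -/
theorem iso_psu_of_graph {G Ω : Type*} [Group G] [Finite G] [IsSimpleGroup G] [MulAction G Ω]
    (hcard : Nat.card G = 3265920) (e : Ω ≃ Fin 112) (hmove : ∃ (g : G) (x : Ω), g • x ≠ x)
    (hadj : ∀ (g : G) (x y : Ω), adjU (e (g • x)) (e (g • y)) = adjU (e x) (e y))
    (K : Type) [Field K] [Fintype K] (hK : Fintype.card K = 9) : Nonempty (G ≃* PSU 4 K 3) := by
  refine iso_psu_of_model (iso_model_of_adjU hcard
    (e.permCongrHom.toMonoidHom.comp (MulAction.toPermHom G Ω)) (fun h => ?_) fun g i j => ?_) K hK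
  · obtain ⟨g, x, hx⟩ := hmove
    have h1 : e (g • e.symm (e x)) = e x := DFunLike.congr_fun (DFunLike.congr_fun h g) (e x)
    exact hx (by simpa using h1)
  · simpa using hadj g (e.symm i) (e.symm j)

end Cfsg.Lib.UFourThreeRecog
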